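import Mathlib

set_option autoImplicit false

/-! Shared definitions of project AltFus (S5165: the `p`-fusion system of `A_n` is simple). -/

namespace Cfsg.Agent.Lib.Helper27.AltFus

open Equiv

/-! ### generic -/

/-- `P` is a Sylow `p`-subgroup of `A`, everything inside an ambient group `Ω` -/
structure IsSylIn {Ω : Type*} [Group Ω] (p : ℕ) (A P : Subgroup Ω) : Prop where
  le : P ≤ A
  pgroup : IsPGroup p P
  conj : ∀ Q : Subgroup Ω, Q ≤ A → IsPGroup p Q → ∃ g ∈ A, ∀ x ∈ Q, g * x * g⁻¹ ∈ P

/-- the set of `A`-conjugates of elements of `T` -/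
def conjSet {Ω : Type*} [Group Ω] (A T : Subgroup Ω) : Set Ω :=
  {y | ∃ x ∈ T, ∃ g ∈ A, y = g * x * g⁻¹}

/-- the subgroup generated by the `p`-elements of `N_A(R)` -/
def OpN {Ω : Type*} [Group Ω] (p : ℕ) (A R : Subgroup Ω) : Subgroup Ω :=
  Subgroup.closure {x | x ∈ A ∧ x ∈ Subgroup.normalizer (R : Set Ω) ∧ ∃ k : ℕ, x ^ p ^ k = 1}

/-! ### the model for odd `p` : `m = p + m'` blocks of size `p`, and `r ≤ 1` further points -/

section odd

variable (p : ℕ) [Fact p.Prime] (m' r : ℕ)

/-- block indices: the first `p` blocks (indexed by `ZMod p`) form the `p²`-block `Δ` -/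
abbrev Blk := ZMod p ⊕ Fin m'

/-- the points: `(i, x)` is the point `x` of block `i` -/
abbrev Mdl := (Blk p m' × ZMod p) ⊕ Fin r

variable {p}

/-- the permutation `(i, x) ↦ (π i, a i * x + b i)` -/
def nrm {I : Type*} (π : Perm I) (a : I → (ZMod p)ˣ) (b : I → ZMod p) : Perm (I × ZMod p) where
  toFun q := (π q.1, (a q.1 : ZMod p) * q.2 + b q.1)
  invFun q := (π.symm q.1, ((a (π.symm q.1))⁻¹ : (ZMod p)ˣ) * (q.2 - b (π.symm q.1)))
  left_inv q := by
    rcases q with ⟨i, x⟩
    refine Prod.ext (π.symm_apply_apply i) ?_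
    show ((a (π.symm (π i)))⁻¹ : (ZMod p)ˣ) * ((a i : ZMod p) * x + b i - b (π.symm (π i))) = x
    rw [π.symm_apply_apply i, add_sub_cancel_right, ← mul_assoc, ← Units.val_mul, inv_mul_cancel,
      Units.val_one, one_mul]
  right_inv q := by
    rcases q with ⟨i, x⟩
    refine Prod.ext (π.apply_symm_apply i) ?_
    show (a (π.symm i) : ZMod p) * (((a (π.symm i))⁻¹ : (ZMod p)ˣ) * (x - b (π.symm i))) +
      b (π.symm i) = x
    rw [← mul_assoc, ← Units.val_mul, mul_inv_cancel, Units.val_one, one_mul, sub_add_cancel]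

@[simp] theorem nrm_apply {I : Type*} (π : Perm I) (a : I → (ZMod p)ˣ) (b : I → ZMod p)
    (i : I) (x : ZMod p) : nrm π a b (i, x) = (π i, (a i : ZMod p) * x + b i) := rfl

variable {m' r}

omit [Fact p.Prime] in
/-- extend a permutation of the block part to the model (fixing the further points) -/
def ext (f : Perm (Blk p m' × ZMod p)) : Perm (Mdl p m' r) := Equiv.Perm.sumCongr f 1

omit [Fact p.Prime] in
@[simp] theorem ext_inl (f : Perm (Blk p m' × ZMod p)) (q : Blk p m' × ZMod p) :
    (ext f : Perm (Mdl p m' r)) (Sum.inl q) = Sum.inl (f q) := rfl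

omit [Fact p.Prime] in
@[simp] theorem ext_inr (f : Perm (Blk p m' × ZMod p)) (k : Fin r) :
    (ext f : Perm (Mdl p m' r)) (Sum.inr k) = Sum.inr k := rfl

variable (p m')

/-- the `p`-cycle of block `i` : `(i, x) ↦ (i, x + 1)` -/
def cyc (i : Blk p m') : Perm (Blk p m' × ZMod p) := nrm 1 1 (Pi.single i 1)

/-- block permutation : `(i, x) ↦ (π i, x)` -/
def blk (π : Perm (Blk p m')) : Perm (Blk p m' × ZMod p) := nrm π 1 0

/-- diagonal element : `(i, x) ↦ (i, a i * x)` -/
def dg (a : Blk p m' → (ZMod p)ˣ) : Perm (Blk p m' × ZMod p) := nrm 1 a 0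

/-- the cyclic shift of the first `p` blocks : `(inl j, x) ↦ (inl (j + 1), x)` -/
def sig : Perm (Blk p m' × ZMod p) := blk p m' (Equiv.Perm.sumCongr (Equiv.addRight 1) 1)

/-- `(inl j, x) ↦ (inl j, x + 1)`, the product of the `p`-cycles of the first `p` blocks -/
def zz : Perm (Blk p m' × ZMod p) := nrm 1 1 (Sum.elim (fun _ => 1) (fun _ => 0))

/-- the torus element `(inl j, x) ↦ (inl (l⁻¹ * j), l * x)`, identity on the other blocks -/
def uu (l : (ZMod p)ˣ) : Perm (Blk p m' × ZMod p) :=
  nrm (Equiv.Perm.sumCongr (Units.mulLeft l⁻¹) 1) (Sum.elim (fun _ => l) (fun _ => 1)) 0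

/-- the shear `(inl j, x) ↦ (inl (j + t * x), x)`, identity on the other blocks -/
def sh2 (t : ZMod p) : Perm (Blk p m' × ZMod p) where
  toFun q := (Sum.elim (fun j => Sum.inl (j + t * q.2)) Sum.inr q.1, q.2)
  invFun q := (Sum.elim (fun j => Sum.inl (j - t * q.2)) Sum.inr q.1, q.2)
  left_inv q := by
    rcases q with ⟨j | k, x⟩ <;> simp
  right_inv q := by
    rcases q with ⟨j | k, x⟩ <;> simp

/-- the shear `(inl j, x) ↦ (inl j, x + t * j)`, identity on the other blocks (it lies in `B0`) -/
def sh1 (t : ZMod p) : Perm (Blk p m' × ZMod p) :=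
  nrm 1 1 (Sum.elim (fun j => t * j) (fun _ => 0))

variable (r)

/-- the base group: generated by the `p`-cycles of all blocks -/
def B0 : Subgroup (Perm (Mdl p m' r)) :=
  Subgroup.closure (Set.range fun i : Blk p m' => (ext (cyc p m' i) : Perm (Mdl p m' r)))

/-- the `p`-group generated by the base group and the cyclic shift of the first `p` blocks -/
def W0 : Subgroup (Perm (Mdl p m' r)) :=
  Subgroup.closure ((Set.range fun i : Blk p m' => (ext (cyc p m' i) : Perm (Mdl p m' r))) ∪
    {ext (sig p m')})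

/-- the elementary abelian group: regular of order `p²` on the first `p` blocks, and the `p`-cycles of
the other blocks -/
def R2 : Subgroup (Perm (Mdl p m' r)) :=
  Subgroup.closure (({ext (sig p m'), ext (zz p m')} : Set (Perm (Mdl p m' r))) ∪
    Set.range fun k : Fin m' => (ext (cyc p m' (Sum.inr k)) : Perm (Mdl p m' r)))

/-- the quadratic character in disguise: the sign of multiplication by a unit on `ZMod p` -/
def signU : (ZMod p)ˣ →* ℤˣ :=
  Equiv.Perm.sign.comp
    { toFun := fun u => (Units.mulLeft u : Perm (ZMod p))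
      map_one' := by ext x; simp
      map_mul' := fun u v => by ext x; simp [mul_assoc] }

end odd

/-! ### the model for `p = 2` : `k` blocks of size `4`, `s1 ≤ 1` blocks of size `2`, `r ≤ 1` points -/

section even

variable (k s1 r : ℕ)

/-- the points: `(j, (u, x))` is the point `x` of the `2`-block `u` of the `4`-block `j` -/
abbrev Mdl2 := (Fin k × (ZMod 2 × ZMod 2)) ⊕ ((Fin s1 × ZMod 2) ⊕ Fin r)

variable {k s1 r}

/-- a permutation of the `4`-blocks part, extended by the identity -/
def ext4 (f : Perm (Fin k × (ZMod 2 × ZMod 2))) : Perm (Mdl2 k s1 r) := Equiv.Perm.sumCongr f 1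

/-- a permutation of the `2`-blocks part, extended by the identity -/
def ext2 (f : Perm (Fin s1 × ZMod 2)) : Perm (Mdl2 k s1 r) :=
  Equiv.Perm.sumCongr 1 (Equiv.Perm.sumCongr f 1)

variable (k)

/-- swap the two `2`-blocks of the `4`-block `j` : `(j, (u, x)) ↦ (j, (u + 1, x))` -/
def tA (j : Fin k) : Perm (Fin k × (ZMod 2 × ZMod 2)) where
  toFun q := if q.1 = j then (q.1, (q.2.1 + 1, q.2.2)) else q
  invFun q := if q.1 = j then (q.1, (q.2.1 + 1, q.2.2)) else q
  left_inv q := by
    rcases q with ⟨i, u, x⟩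
    by_cases h : i = j
    · have : u + 1 + 1 = u := by
        rw [add_assoc]; have : (1 : ZMod 2) + 1 = 0 := by decide
        rw [this, add_zero]
      simp [h, this]
    · simp [h]
  right_inv q := by
    rcases q with ⟨i, u, x⟩
    by_cases h : i = j
    · have : u + 1 + 1 = u := by
        rw [add_assoc]; have : (1 : ZMod 2) + 1 = 0 := by decide
        rw [this, add_zero]
      simp [h, this]
    · simp [h]

/-- the transposition inside the first `2`-block of the `4`-block `j` :
`(j, (0, x)) ↦ (j, (0, x + 1))`, all other points fixed -/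
def tC (j : Fin k) : Perm (Fin k × (ZMod 2 × ZMod 2)) where
  toFun q := if q.1 = j ∧ q.2.1 = 0 then (q.1, (q.2.1, q.2.2 + 1)) else q
  invFun q := if q.1 = j ∧ q.2.1 = 0 then (q.1, (q.2.1, q.2.2 + 1)) else q
  left_inv q := by
    rcases q with ⟨i, u, x⟩
    by_cases h : i = j ∧ u = 0
    · have : x + 1 + 1 = x := by
        rw [add_assoc]; have : (1 : ZMod 2) + 1 = 0 := by decide
        rw [this, add_zero]
      simp [h, this]
    · simp [h]
  right_inv q := by
    rcases q with ⟨i, u, x⟩
    by_cases h : i = j ∧ u = 0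
    · have : x + 1 + 1 = x := by
        rw [add_assoc]; have : (1 : ZMod 2) + 1 = 0 := by decide
        rw [this, add_zero]
      simp [h, this]
    · simp [h]

/-- permutation of the `4`-blocks : `(j, q) ↦ (π j, q)` -/
def blk4 (π : Perm (Fin k)) : Perm (Fin k × (ZMod 2 × ZMod 2)) := Equiv.prodCongr π (Equiv.refl _)

variable (s1)

/-- the transposition of the `2`-block `i` : `(i, x) ↦ (i, x + 1)` -/
def tI (i : Fin s1) : Perm (Fin s1 × ZMod 2) where
  toFun q := if q.1 = i then (q.1, q.2 + 1) else q
  invFun q := if q.1 = i then (q.1, q.2 + 1) else q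
  left_inv q := by
    rcases q with ⟨j, x⟩
    by_cases h : j = i
    · have : x + 1 + 1 = x := by
        rw [add_assoc]; have : (1 : ZMod 2) + 1 = 0 := by decide
        rw [this, add_zero]
      simp [h, this]
    · simp [h]
  right_inv q := by
    rcases q with ⟨j, x⟩
    by_cases h : j = i
    · have : x + 1 + 1 = x := by
        rw [add_assoc]; have : (1 : ZMod 2) + 1 = 0 := by decide
        rw [this, add_zero]
      simp [h, this]
    · simp [h]

variable (r)

/-- the direct product of the dihedral groups of the `4`-blocks and the groups of order `2` of the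
`2`-blocks -/
def DD : Subgroup (Perm (Mdl2 k s1 r)) :=
  Subgroup.closure ((Set.range fun j : Fin k => (ext4 (tA k j) : Perm (Mdl2 k s1 r))) ∪
    (Set.range fun j : Fin k => (ext4 (tC k j) : Perm (Mdl2 k s1 r))) ∪
    (Set.range fun i : Fin s1 => (ext2 (tI s1 i) : Perm (Mdl2 k s1 r))))

/-- the general element of `DD` : on the `4`-block `j` it is `(u, x) ↦ (u + ε j, x + δ j u)`, on the
`2`-block `i` it is `x ↦ x + η i` -/
def dd (ε : Fin k → ZMod 2) (δ : Fin k → ZMod 2 → ZMod 2) (η : Fin s1 → ZMod 2) :
    Perm (Mdl2 k s1 r) :=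
  Equiv.Perm.sumCongr
    { toFun := fun q => (q.1, (q.2.1 + ε q.1, q.2.2 + δ q.1 q.2.1))
      invFun := fun q => (q.1, (q.2.1 + ε q.1, q.2.2 + δ q.1 (q.2.1 + ε q.1)))
      left_inv := fun q => by
        rcases q with ⟨j, u, x⟩
        have h2 : ∀ a b : ZMod 2, a + b + b = a := by decide
        simp [h2]
      right_inv := fun q => by
        rcases q with ⟨j, u, x⟩
        have h2 : ∀ a b : ZMod 2, a + b + b = a := by decide
        simp [h2] }
    (Equiv.Perm.sumCongr
      { toFun := fun q => (q.1, q.2 + η q.1)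
        invFun := fun q => (q.1, q.2 + η q.1)
        left_inv := fun q => by
          rcases q with ⟨i, x⟩
          have h2 : ∀ a b : ZMod 2, a + b + b = a := by decide
          simp [h2]
        right_inv := fun q => by
          rcases q with ⟨i, x⟩
          have h2 : ∀ a b : ZMod 2, a + b + b = a := by decide
          simp [h2] } 1)

/-- its even part: the `2`-group generated by the double transpositions of a Sylow `2`-subgroup -/
def W2 : Subgroup (Perm (Mdl2 k s1 r)) := DD k s1 r ⊓ alternatingGroup (Mdl2 k s1 r)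

end even

end Cfsg.Agent.Lib.Helper27.AltFus
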