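import Mathlib
import Cfsg.Agent.Lib.Helper27.AltFus.Defs

set_option autoImplicit false

/-! Project AltFus, piece SX (first part): the conjugate set of a strongly closed subgroup. -/

namespace Cfsg.Agent.Lib.Helper27.AltFus

theorem conjSet_conj {Ω : Type*} [Group Ω] (A T : Subgroup Ω) {y g : Ω} (hy : y ∈ conjSet A T)
    (hg : g ∈ A) : g * y * g⁻¹ ∈ conjSet A T := by
  obtain ⟨x, hx, g₀, hg₀, rfl⟩ := hy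
  refine ⟨x, hx, g * g₀, A.mul_mem hg hg₀, ?_⟩
  group

theorem conjSet_pow {Ω : Type*} [Group Ω] (A T : Subgroup Ω) {y : Ω} (hy : y ∈ conjSet A T)
    (n : ℕ) : y ^ n ∈ conjSet A T := by
  obtain ⟨x, hx, g₀, hg₀, rfl⟩ := hy
  refine ⟨x ^ n, T.pow_mem hx n, g₀, hg₀, ?_⟩
  rw [conj_pow]

theorem conjSet_inter {Ω : Type*} [Group Ω] {A P T : Subgroup Ω}
    (hcl : ∀ x ∈ T, ∀ g ∈ A, g * x * g⁻¹ ∈ P → g * x * g⁻¹ ∈ T) {y : Ω} (hy : y ∈ conjSet A T)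
    (hyP : y ∈ P) : y ∈ T := by
  obtain ⟨x, hx, g₀, hg₀, rfl⟩ := hy
  exact hcl x hx g₀ hg₀ hyP

theorem mem_conjSet_of_mem {Ω : Type*} [Group Ω] (A T : Subgroup Ω) {y : Ω} (hy : y ∈ T) :
    y ∈ conjSet A T :=
  ⟨y, hy, 1, A.one_mem, by group⟩

theorem conjSet_mul {Ω : Type*} [Group Ω] {p : ℕ} {A P T : Subgroup Ω} (hP : IsSylIn p A P)
    (hcl : ∀ x ∈ T, ∀ g ∈ A, g * x * g⁻¹ ∈ P → g * x * g⁻¹ ∈ T)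
    (Q : Subgroup Ω) (hQA : Q ≤ A) (hQ : IsPGroup p Q) {y₁ y₂ : Ω} (h₁ : y₁ ∈ conjSet A T)
    (h₂ : y₂ ∈ conjSet A T) (hy₁ : y₁ ∈ Q) (hy₂ : y₂ ∈ Q) : y₁ * y₂ ∈ conjSet A T := by
  obtain ⟨g, hg, hgQ⟩ := hP.conj Q hQA hQ
  have t₁ : g * y₁ * g⁻¹ ∈ T := conjSet_inter hcl (conjSet_conj A T h₁ hg) (hgQ y₁ hy₁)
  have t₂ : g * y₂ * g⁻¹ ∈ T := conjSet_inter hcl (conjSet_conj A T h₂ hg) (hgQ y₂ hy₂)
  refine ⟨g * y₁ * g⁻¹ * (g * y₂ * g⁻¹), T.mul_mem t₁ t₂, g⁻¹, A.inv_mem hg, ?_⟩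
  group

end Cfsg.Agent.Lib.Helper27.AltFus
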