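import Mathlib
import Cfsg.Agent.Lib.Helper27.AltFus.Defs
import Cfsg.Agent.Lib.Helper26.FusionAut
import Cfsg.Agent.S5076
import Cfsg.Agent.S5334
import Cfsg.Agent.S5335

set_option autoImplicit false

/-! Project AltFus, piece F: a simplicity criterion for the fusion system of a finite group. -/

namespace Cfsg.Agent.Lib.Helper27.AltFus

open Cfsg Cfsg.FusionSystem Cfsg.Agent.Lib.Helper26

open scoped Pointwise

variable {G : Type*} [Group G] [Finite G]

/-- conjugation by a `p`-element of `N_G(R)` is a map of every invariant subsystem over the whole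
Sylow subgroup -/
theorem conjHom_mem_of_pelt (p : ℕ) [Fact p.Prime] (S : Sylow p G)
    (E : FusionSystem (S : Subgroup G))
    (hinv : E.IsInvariantIn (groupFusionSystem (S : Subgroup G))) {R : Subgroup G}
    (hRS : R ≤ (S : Subgroup G)) {u : G} (huN : u ∈ Subgroup.normalizer (R : Set G)) {k : ℕ}
    (hu : u ^ p ^ k = 1) : conjHom R u ∈ E.Hom R := by
  -- the `p`-group generated by `R` and `u`
  have hRp : IsPGroup p R := S.isPGroup'.to_le hRS
  have hup : IsPGroup p (Subgroup.zpowers u) := by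
    rintro ⟨_, j, rfl⟩
    refine ⟨k, Subtype.ext ?_⟩
    show (u ^ j) ^ p ^ k = 1
    rw [← zpow_natCast, ← zpow_mul, mul_comm, zpow_mul, zpow_natCast, hu, one_zpow]
  have huN' : Subgroup.zpowers u ≤ Subgroup.normalizer (R : Set G) := by
    rw [Subgroup.zpowers_le]
    exact huN
  have hQp : IsPGroup p (R ⊔ Subgroup.zpowers u : Subgroup G) :=
    hRp.to_sup_of_normal_left' hup huN'
  obtain ⟨Q', hQ'⟩ := hQp.exists_le_sylow
  obtain ⟨w, hw⟩ := MulAction.exists_smul_eq G Q' S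
  have hwS : ∀ x ∈ (R ⊔ Subgroup.zpowers u : Subgroup G), w * x * w⁻¹ ∈ (S : Subgroup G) := by
    intro x hx
    have h1 : x ∈ (Q' : Subgroup G) := hQ' hx
    have h3 : (w • Q' : Sylow p G) = S := hw
    have h4 : ((w • Q' : Sylow p G) : Subgroup G) = MulAut.conj w • (Q' : Subgroup G) := rfl
    rw [← h3, h4]
    exact Subgroup.smul_mem_pointwise_smul _ _ _ h1
  have hφ : conjHom R w ∈ (groupFusionSystem (S : Subgroup G)).Hom R :=
    ⟨hRS, fun x => hwS x (Subgroup.mem_sup_left x.2), w, fun x => rfl⟩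
  obtain ⟨α, hα, φ₀, hφ₀, h⟩ := hinv.2.2.2 R hRS _ hφ
  obtain ⟨-, -, y, hy⟩ := (mem_autGroup_iff _ le_rfl).mp hα
  have hφ₀S : ∀ x : R, φ₀ x ∈ (S : Subgroup G) := fun x => apply_mem E hφ₀ x
  -- `φ₀` is conjugation by `y⁻¹ * w`
  have hφ₀x : ∀ r : R, φ₀ r = y⁻¹ * w * (r : G) * (y⁻¹ * w)⁻¹ := by
    intro r
    have h1 : w * (r : G) * w⁻¹ = y * φ₀ r * y⁻¹ := by
      have := h r (hφ₀S r)
      rw [← hy ⟨φ₀ r, hφ₀S r⟩] at *
      exact this
    calc φ₀ r = y⁻¹ * (y * φ₀ r * y⁻¹) * y := by group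
      _ = y⁻¹ * w * (r : G) * (y⁻¹ * w)⁻¹ := by rw [← h1]; group
  -- `y` normalizes `S`
  have hyS : ∀ s ∈ (S : Subgroup G), y⁻¹ * s * y ∈ (S : Subgroup G) := by
    intro s hs
    have h1 := hy (α⁻¹ ⟨s, hs⟩)
    have h1' : ((α (α⁻¹ ⟨s, hs⟩) : (S : Subgroup G)) : G) =
        y * ((α⁻¹ ⟨s, hs⟩ : (S : Subgroup G)) : G) * y⁻¹ := h1
    rw [MulAut.apply_inv_self] at h1'
    have h2 : y⁻¹ * s * y = ((α⁻¹ ⟨s, hs⟩ : (S : Subgroup G)) : G) := by
      have : (s : G) = y * ((α⁻¹ ⟨s, hs⟩ : (S : Subgroup G)) : G) * y⁻¹ := h1'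
      calc y⁻¹ * s * y = y⁻¹ * (y * ((α⁻¹ ⟨s, hs⟩ : (S : Subgroup G)) : G) * y⁻¹) * y := by
            rw [← this]
        _ = ((α⁻¹ ⟨s, hs⟩ : (S : Subgroup G)) : G) := by group
    rw [h2]
    exact (α⁻¹ ⟨s, hs⟩).2
  set s' : G := y⁻¹ * (w * u * w⁻¹) * y with hs'
  have hs'S : s' ∈ (S : Subgroup G) :=
    hyS _ (hwS u (Subgroup.mem_sup_right (Subgroup.mem_zpowers u)))
  have hkey : ∀ r : R, s' * φ₀ r * s'⁻¹ =
      φ₀ ⟨u * (r : G) * u⁻¹, (Subgroup.mem_normalizer_iff.mp huN r).mp r.2⟩ := by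
    intro r
    rw [hφ₀x, hφ₀x, hs']
    show _ = y⁻¹ * w * (u * (r : G) * u⁻¹) * (y⁻¹ * w)⁻¹
    group
  have hψ₂ : conjHom φ₀.range s' ∈ E.Hom φ₀.range := E.conj_mem (range_le E hφ₀) hs'S
  obtain ⟨ψ₃, hψ₃, hψ₃x⟩ := E.inv_mem hφ₀
  have h1 : ∀ x : R, φ₀ x ∈ φ₀.range := fun x => ⟨x, rfl⟩
  have hc₁ := E.comp_mem hφ₀ hψ₂ h1
  have h2 : ∀ x : R, ((conjHom φ₀.range s').comp (φ₀.codRestrict φ₀.range h1)) x ∈ φ₀.range := by
    intro r
    show s' * φ₀ r * s'⁻¹ ∈ φ₀.range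
    rw [hkey]
    exact ⟨_, rfl⟩
  have hc₂ := E.comp_mem hc₁ hψ₃ h2
  refine mem_of_forall_eq E hc₂ (fun r => ?_)
  show u * (r : G) * u⁻¹ = ψ₃ ⟨s' * φ₀ r * s'⁻¹, h2 r⟩
  have e : (⟨s' * φ₀ r * s'⁻¹, h2 r⟩ : φ₀.range) =
      ⟨φ₀ ⟨u * (r : G) * u⁻¹, (Subgroup.mem_normalizer_iff.mp huN r).mp r.2⟩, ⟨_, rfl⟩⟩ :=
    Subtype.ext (hkey r)
  rw [e, hψ₃x]

/-- a self-centralizing subgroup of `S` is centric in the fusion system of the group -/
theorem isCentric_of_centralizer_le (S : Subgroup G) {R : Subgroup G} (hRS : R ≤ S)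
    (hc : ∀ c : G, (∀ r ∈ R, c * r = r * c) → c ∈ R) : (groupFusionSystem S).IsCentric R := by
  refine ⟨hRS, ?_⟩
  rintro Q ⟨φ, ⟨-, -, x, hx⟩, rfl⟩ c ⟨-, hcC⟩
  have hcR : x⁻¹ * c * x ∈ R := by
    apply hc
    intro r hr
    have h1 : φ ⟨r, hr⟩ ∈ φ.range := ⟨_, rfl⟩
    have h2 := Subgroup.mem_centralizer_iff.mp hcC _ h1
    rw [hx] at h2
    have h3 : x * r * x⁻¹ * c = c * (x * r * x⁻¹) := h2
    calc x⁻¹ * c * x * r = x⁻¹ * (c * (x * r * x⁻¹)) * x := by group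
      _ = x⁻¹ * (x * r * x⁻¹ * c) * x := by rw [h3]
      _ = r * (x⁻¹ * c * x) := by group
  refine ⟨⟨x⁻¹ * c * x, hcR⟩, ?_⟩
  rw [hx]
  show x * (x⁻¹ * c * x) * x⁻¹ = c
  group

/-- **Criterion F.**  The fusion system of `G` on a Sylow `p`-subgroup `S` is simple as soon as
`S` has no proper nontrivial strongly closed subgroup, and there is a self-centralizing, weakly
closed subgroup `B` of `S` whose normalizer is generated by elements `h` normalizing some `W`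
with `B ≤ W ≤ S` and lying in `OpN p ⊤ R` for some self-centralizing `R ≤ W`. -/
theorem isSimple_of_base (p : ℕ) [Fact p.Prime] (S : Sylow p G) (hne : (S : Subgroup G) ≠ ⊥)
    (hsc : ∀ T : Subgroup G, T ≤ (S : Subgroup G) → T ≠ ⊥ →
      (∀ x ∈ T, ∀ g : G, g * x * g⁻¹ ∈ (S : Subgroup G) → g * x * g⁻¹ ∈ T) →
      (S : Subgroup G) ≤ T)
    (B : Subgroup G) (hBS : B ≤ (S : Subgroup G))
    (hBc : ∀ c : G, (∀ b ∈ B, c * b = b * c) → c ∈ B)
    (hBw : ∀ g : G, (∀ b ∈ B, g * b * g⁻¹ ∈ (S : Subgroup G)) → ∀ b ∈ B, g * b * g⁻¹ ∈ B)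
    (hgen : Subgroup.normalizer (B : Set G) ≤ Subgroup.closure
      {h : G | h ∈ Subgroup.normalizer (B : Set G) ∧ ∃ R W : Subgroup G, R ≤ W ∧ B ≤ W ∧
        W ≤ (S : Subgroup G) ∧ h ∈ Subgroup.normalizer (W : Set G) ∧
        (∀ c : G, (∀ r ∈ R, c * r = r * c) → c ∈ R) ∧ h ∈ OpN p ⊤ R}) :
    (groupFusionSystem (S : Subgroup G)).IsSimple p := by
  have hF := Cfsg.Agent.S5076.result p S
  have hSp : IsPGroup p ↥(S : Subgroup G) := S.isPGroup'
  refine ⟨hF, hne, fun T E hE => ?_⟩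
  by_cases hT0 : T = ⊥
  · exact Or.inl hT0
  right
  have hT := hE.1.2.2.2.1
  have hTS : T = (S : Subgroup G) := by
    apply le_antisymm hT.1
    apply hsc T hT.1 hT0
    intro x hx g hg
    have hle : Subgroup.zpowers x ≤ T := by
      rw [Subgroup.zpowers_le]; exact hx
    have hφ : conjHom (Subgroup.zpowers x) g ∈
        (groupFusionSystem (S : Subgroup G)).Hom (Subgroup.zpowers x) := by
      refine ⟨hle.trans hT.1, ?_, g, fun y => rfl⟩
      rintro ⟨_, j, rfl⟩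
      show g * x ^ j * g⁻¹ ∈ (S : Subgroup G)
      have : g * x ^ j * g⁻¹ = (g * x * g⁻¹) ^ j := by
        rw [conj_zpow]
      rw [this]
      exact Subgroup.zpow_mem _ hg j
    exact hT.2 _ hle _ hφ ⟨x, Subgroup.mem_zpowers x⟩
  subst hTS
  obtain ⟨⟨hEsat, -, hinv⟩, -⟩ := hE
  have hsub := hinv.1
  -- the "two out of three" step
  have h23 : ∀ (R W : Subgroup G), R ≤ W → W ≤ (S : Subgroup G) →
      (∀ c : G, (∀ r ∈ R, c * r = r * c) → c ∈ R) → ∀ h : G,
      h ∈ Subgroup.normalizer (W : Set G) → conjHom R h ∈ E.Hom R → conjHom W h ∈ E.Hom W := by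
    intro R W hRW hWS hRc h hhW hhR
    have hRS : R ≤ (S : Subgroup G) := hRW.trans hWS
    have hWc : ∀ c : G, (∀ r ∈ W, c * r = r * c) → c ∈ W :=
      fun c hc => hRW (hRc c (fun r hr => hc r (hRW hr)))
    have hφR : ∀ x : R, R.subtype x ∈ W := fun x => hRW x.2
    have hψ : conjHom W h ∈ (groupFusionSystem (S : Subgroup G)).Hom W :=
      ⟨hWS, fun x => hWS ((Subgroup.mem_normalizer_iff.mp hhW x).mp x.2), h, fun x => rfl⟩
    have h3 := (Cfsg.Agent.S5334.result p hSp _ hF E hEsat (fun P => hsub P) R W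
      (isCentric_of_centralizer_le _ hRS hRc) (isCentric_of_centralizer_le _ hWS hWc)
      R.subtype (subtype_mem _ hRS) hφR _ hψ).2.2
    exact h3 (subtype_mem E hRS) (mem_of_forall_eq E hhR (fun x => rfl))
  -- elements of `OpN p ⊤ R` act on `R` inside `E`
  have hOp : ∀ R : Subgroup G, R ≤ (S : Subgroup G) → ∀ h ∈ OpN p ⊤ R,
      h ∈ Subgroup.normalizer (R : Set G) ∧ conjHom R h ∈ E.Hom R := by
    intro R hRS h hh
    have hle : OpN p ⊤ R ≤ ((E.autGroup R).comap (Subgroup.normalizerMonoidHom R)).map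
        (Subgroup.normalizer (R : Set G)).subtype := by
      unfold OpN
      rw [Subgroup.closure_le]
      rintro u ⟨-, huN, k, hk⟩
      refine ⟨⟨u, huN⟩, ?_, rfl⟩
      show conjAut R u huN ∈ E.autGroup R
      rw [mem_autGroup_iff E hRS]
      exact mem_of_forall_eq E (conjHom_mem_of_pelt p S E hinv hRS huN hk) (fun x => rfl)
    obtain ⟨⟨h', hh'⟩, hmem, rfl⟩ := hle hh
    refine ⟨hh', ?_⟩
    have : conjAut R h' hh' ∈ E.autGroup R := hmem
    rw [mem_autGroup_iff E hRS] at this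
    exact mem_of_forall_eq E this (fun x => rfl)
  -- the normalizer of `B` acts on `B` inside `E`
  have hNB : ∀ g ∈ Subgroup.normalizer (B : Set G), conjHom B g ∈ E.Hom B := by
    have hle : Subgroup.normalizer (B : Set G) ≤
        ((E.autGroup B).comap (Subgroup.normalizerMonoidHom B)).map
        (Subgroup.normalizer (B : Set G)).subtype := by
      refine hgen.trans ?_
      rw [Subgroup.closure_le]
      rintro h ⟨hhB, R, W, hRW, hBW, hWS, hhW, hRc, hhOp⟩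
      refine ⟨⟨h, hhB⟩, ?_, rfl⟩
      show conjAut B h hhB ∈ E.autGroup B
      rw [mem_autGroup_iff E hBS]
      have hW := h23 R W hRW hWS hRc h hhW (hOp R (hRW.trans hWS) h hhOp).2
      exact mem_of_forall_eq E (restrict_mem E hW hBW) (fun x => rfl)
    intro g hg
    obtain ⟨⟨g', hg'⟩, hmem, rfl⟩ := hle hg
    have : conjAut B g' hg' ∈ E.autGroup B := hmem
    rw [mem_autGroup_iff E hBS] at this
    exact mem_of_forall_eq E this (fun x => rfl)
  -- the normalizer of `S` acts on `S` inside `E`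
  have hNS : ∀ g ∈ Subgroup.normalizer ((S : Subgroup G) : Set G),
      conjHom (S : Subgroup G) g ∈ E.Hom (S : Subgroup G) := by
    intro g hg
    have hgB : g ∈ Subgroup.normalizer (B : Set G) := by
      rw [Subgroup.mem_normalizer_iff]
      intro x
      constructor
      · intro hx
        exact hBw g (fun b hb => (Subgroup.mem_normalizer_iff.mp hg b).mp (hBS hb)) x hx
      · intro hx
        have hg' : g⁻¹ ∈ Subgroup.normalizer ((S : Subgroup G) : Set G) := Subgroup.inv_mem _ hg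
        have := hBw g⁻¹ (fun b hb => (Subgroup.mem_normalizer_iff.mp hg' b).mp (hBS hb)) _ hx
        have e : g⁻¹ * (g * x * g⁻¹) * g⁻¹⁻¹ = x := by group
        rwa [e] at this
    exact h23 B (S : Subgroup G) hBS le_rfl hBc g hg (hNB g hgB)
  have hAut : ∀ α ∈ (groupFusionSystem (S : Subgroup G)).autGroup (S : Subgroup G),
      α ∈ E.autGroup (S : Subgroup G) := by
    intro α hα
    obtain ⟨-, -, g, hg⟩ := (mem_autGroup_iff _ le_rfl).mp hα
    have hgN : g ∈ Subgroup.normalizer ((S : Subgroup G) : Set G) :=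
      mem_normalizer_of_conj_aut (α := α) (fun x => hg x)
    rw [mem_autGroup_iff E le_rfl]
    exact mem_of_forall_eq E (hNS g hgN) (fun x => hg x)
  refine ⟨rfl, fun P => ?_⟩
  apply Set.eq_of_subset_of_subset (hsub P)
  intro φ hφ
  have hPT : P ≤ (S : Subgroup G) := ((groupFusionSystem (S : Subgroup G)).le_of_mem hφ).1
  obtain ⟨α, hα, φ₀, hφ₀, h⟩ := hinv.2.2.2 P hPT φ hφ
  have hαE := (mem_autGroup_iff E le_rfl).mp (hAut α hα)
  have hφ₀T := (E.le_of_mem hφ₀).2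
  have hcomp := E.comp_mem hφ₀ hαE hφ₀T
  refine mem_of_forall_eq E hcomp (fun x => ?_)
  rw [h x (hφ₀T x)]
  rfl

end Cfsg.Agent.Lib.Helper27.AltFus
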