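import Mathlib
import Cfsg.Agent.Lib.Helper27.AltFus.Crit

set_option autoImplicit false

/-! Project AltFus, piece F: the simplicity criterion, read through an embedding of the group. -/

namespace Cfsg.Agent.Lib.Helper27.AltFus

open Cfsg Cfsg.FusionSystem

open scoped Pointwise

variable {G : Type*} [Group G] [Finite G] {Ω : Type*} [Group Ω]

/-- the image of a Sylow subgroup under an embedding is a Sylow subgroup of the image -/
theorem isSylIn_map (p : ℕ) [Fact p.Prime] (S : Sylow p G) (f : G →* Ω)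
    (hf : Function.Injective f) : IsSylIn p f.range ((S : Subgroup G).map f) := by
  refine ⟨?_, ?_, ?_⟩
  · rintro _ ⟨x, -, rfl⟩
    exact ⟨x, rfl⟩
  · exact S.isPGroup'.map f
  · intro Q hQA hQ
    have hQ' : IsPGroup p (Q.comap f) := hQ.comap_of_injective f hf
    obtain ⟨Q', hQ'le⟩ := hQ'.exists_le_sylow
    obtain ⟨w, hw⟩ := MulAction.exists_smul_eq G Q' S
    refine ⟨f w, ⟨w, rfl⟩, fun x hx => ?_⟩
    obtain ⟨x', rfl⟩ := hQA hx
    have h1 : x' ∈ (Q' : Subgroup G) := hQ'le hx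
    have h3 : (w • Q' : Sylow p G) = S := hw
    have h4 : ((w • Q' : Sylow p G) : Subgroup G) = MulAut.conj w • (Q' : Subgroup G) := rfl
    have h5 : w * x' * w⁻¹ ∈ (S : Subgroup G) := by
      rw [← h3, h4]
      exact Subgroup.smul_mem_pointwise_smul _ _ _ h1
    refine ⟨w * x' * w⁻¹, h5, ?_⟩
    simp

/-- **Criterion F, embedded form.** -/
theorem isSimple_of_base_emb (p : ℕ) [Fact p.Prime] (S : Sylow p G)
    (f : G →* Ω) (hf : Function.Injective f) (A P : Subgroup Ω) (hA : f.range = A)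
    (hP : (S : Subgroup G).map f = P) (hne : P ≠ ⊥)
    (hsc : ∀ T : Subgroup Ω, T ≤ P → T ≠ ⊥ →
      (∀ x ∈ T, ∀ g ∈ A, g * x * g⁻¹ ∈ P → g * x * g⁻¹ ∈ T) → P ≤ T)
    (B : Subgroup Ω) (hBP : B ≤ P)
    (hBc : ∀ c ∈ A, (∀ b ∈ B, c * b = b * c) → c ∈ B)
    (hBw : ∀ g ∈ A, (∀ b ∈ B, g * b * g⁻¹ ∈ P) → ∀ b ∈ B, g * b * g⁻¹ ∈ B)
    (hgen : ∀ g ∈ A, g ∈ Subgroup.normalizer (B : Set Ω) → g ∈ Subgroup.closure
      {h : Ω | h ∈ A ∧ h ∈ Subgroup.normalizer (B : Set Ω) ∧ ∃ R W : Subgroup Ω, R ≤ W ∧ B ≤ W ∧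
        W ≤ P ∧ h ∈ Subgroup.normalizer (W : Set Ω) ∧
        (∀ c ∈ A, (∀ r ∈ R, c * r = r * c) → c ∈ R) ∧ h ∈ OpN p A R}) :
    (groupFusionSystem (S : Subgroup G)).IsSimple p := by
  subst hA
  subst hP
  have hPA : (S : Subgroup G).map f ≤ f.range := by
    rintro _ ⟨x, -, rfl⟩
    exact ⟨x, rfl⟩
  -- pulling back subgroups of `P`
  have hcomapS : ∀ W : Subgroup Ω, W ≤ (S : Subgroup G).map f → W.comap f ≤ (S : Subgroup G) := by
    intro W hW x hx
    exact (Subgroup.mem_map_iff_mem hf).mp (hW hx)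
  have hmapcomap : ∀ W : Subgroup Ω, W ≤ (S : Subgroup G).map f → (W.comap f).map f = W :=
    fun W hW => Subgroup.map_comap_eq_self (hW.trans hPA)
  have hcent : ∀ R : Subgroup Ω, R ≤ (S : Subgroup G).map f →
      (∀ c ∈ f.range, (∀ r ∈ R, c * r = r * c) → c ∈ R) →
      ∀ c : G, (∀ r ∈ R.comap f, c * r = r * c) → c ∈ R.comap f := by
    intro R hR hRc c hc
    show f c ∈ R
    apply hRc (f c) ⟨c, rfl⟩
    intro r hr
    obtain ⟨r', rfl⟩ := hPA (hR hr)
    rw [← map_mul, ← map_mul, hc r' hr]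
  refine isSimple_of_base p S ?_ ?_ (B.comap f) (hcomapS B hBP) (hcent B hBP hBc) ?_ ?_
  · intro h
    apply hne
    rw [h, Subgroup.map_bot]
  · intro T hTS hT0 hTcl
    have h1 : (S : Subgroup G).map f ≤ T.map f := by
      apply hsc (T.map f) (Subgroup.map_mono hTS)
      · intro h
        apply hT0
        exact (Subgroup.map_eq_bot_iff_of_injective T hf).mp h
      · rintro _ ⟨x, hx, rfl⟩ _ ⟨g, rfl⟩ hg
        have e : f g * f x * (f g)⁻¹ = f (g * x * g⁻¹) := by simp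
        rw [e] at hg ⊢
        exact Subgroup.mem_map_of_mem f (hTcl x hx g ((Subgroup.mem_map_iff_mem hf).mp hg))
    exact (Subgroup.map_le_map_iff_of_injective hf).mp h1
  · intro g hg b hb
    show f (g * b * g⁻¹) ∈ B
    have e : f (g * b * g⁻¹) = f g * f b * (f g)⁻¹ := by simp
    rw [e]
    apply hBw (f g) ⟨g, rfl⟩ _ (f b) hb
    intro b₁ hb₁
    obtain ⟨b', rfl⟩ := hPA (hBP hb₁)
    have e' : f g * f b' * (f g)⁻¹ = f (g * b' * g⁻¹) := by simp
    rw [e']
    exact Subgroup.mem_map_of_mem f (hg b' hb₁)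
  · intro g hg
    have hfg : f g ∈ Subgroup.normalizer (B : Set Ω) := by
      have h1 : f g ∈ (Subgroup.normalizer ((B.comap f : Subgroup G) : Set G)).map f :=
        Subgroup.mem_map_of_mem f hg
      have h2 := Subgroup.le_normalizer_map (H := B.comap f) f h1
      rwa [hmapcomap B hBP] at h2
    have h3 := hgen (f g) ⟨g, rfl⟩ hfg
    have hle : Subgroup.closure {h : Ω | h ∈ f.range ∧ h ∈ Subgroup.normalizer (B : Set Ω) ∧
        ∃ R W : Subgroup Ω, R ≤ W ∧ B ≤ W ∧ W ≤ (S : Subgroup G).map f ∧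
        h ∈ Subgroup.normalizer (W : Set Ω) ∧
        (∀ c ∈ f.range, (∀ r ∈ R, c * r = r * c) → c ∈ R) ∧ h ∈ OpN p f.range R} ≤
        (Subgroup.closure {h : G | h ∈ Subgroup.normalizer ((B.comap f : Subgroup G) : Set G) ∧
          ∃ R W : Subgroup G, R ≤ W ∧ B.comap f ≤ W ∧
          W ≤ (S : Subgroup G) ∧ h ∈ Subgroup.normalizer (W : Set G) ∧
          (∀ c : G, (∀ r ∈ R, c * r = r * c) → c ∈ R) ∧ h ∈ OpN p ⊤ R}).map f := by
      rw [Subgroup.closure_le]
      rintro _ ⟨⟨h, rfl⟩, hhB, R, W, hRW, hBW, hWP, hhW, hRc, hhOp⟩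
      refine Subgroup.mem_map_of_mem f (Subgroup.subset_closure ?_)
      refine ⟨Subgroup.le_normalizer_comap f hhB, R.comap f, W.comap f,
        Subgroup.comap_mono hRW, Subgroup.comap_mono hBW, hcomapS W hWP,
        Subgroup.le_normalizer_comap f hhW, hcent R (hRW.trans hWP) hRc, ?_⟩
      have hle2 : OpN p f.range R ≤ (OpN p ⊤ (R.comap f)).map f := by
        unfold OpN
        rw [Subgroup.closure_le]
        rintro _ ⟨⟨x, rfl⟩, hxN, k, hk⟩
        refine Subgroup.mem_map_of_mem f (Subgroup.subset_closure ?_)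
        refine ⟨Subgroup.mem_top x, Subgroup.le_normalizer_comap f hxN, k, ?_⟩
        apply hf
        rw [map_pow, hk, map_one]
      exact (Subgroup.mem_map_iff_mem hf).mp (hle2 hhOp)
    exact (Subgroup.mem_map_iff_mem hf).mp (hle h3)

end Cfsg.Agent.Lib.Helper27.AltFus
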