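import Mathlib
import Cfsg.Agent.Lib.Helper27.AltFus.Defs
import Cfsg.Agent.Lib.helper17.AltFusO0

set_option autoImplicit false

namespace Cfsg.Agent.Lib.Helper27.AltFus

open Equiv
open Cfsg.Agent.Lib.helper17.AltFus (nrm_mul sign_ext)

theorem o4_sign_eq_one_of_pow {α : Type*} [Fintype α] [DecidableEq α] {p : ℕ} (hp : p.Prime)
    (hp2 : p ≠ 2) (g : Perm α) (hg : g ^ p = 1) : Perm.sign g = 1 := by
  have h1 : Perm.sign g ^ p = 1 := by rw [← map_pow, hg, map_one]
  rcases Int.units_eq_one_or (Perm.sign g) with h | h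
  · exact h
  · rw [h] at h1
    have hodd : Odd p := hp.odd_of_ne_two hp2
    rw [Odd.neg_one_pow hodd] at h1
    exact absurd h1 (by decide)

/-- the affine map `x ↦ a * x + b` of `ZMod p` -/
def o4_aff {p : ℕ} [Fact p.Prime] (a : (ZMod p)ˣ) (b : ZMod p) : Perm (ZMod p) :=
  (Equiv.addRight b).trans (Equiv.refl _) * (Units.mulLeft a : Perm (ZMod p))

theorem o4_aff_apply {p : ℕ} [Fact p.Prime] (a : (ZMod p)ˣ) (b x : ZMod p) :
    o4_aff a b x = (a : ZMod p) * x + b := by
  simp [o4_aff, Perm.mul_apply]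

theorem o4_sign_addRight {p : ℕ} [Fact p.Prime] (hp : p ≠ 2) (b : ZMod p) :
    Perm.sign ((Equiv.addRight b).trans (Equiv.refl _) : Perm (ZMod p)) = 1 := by
  apply o4_sign_eq_one_of_pow (Fact.out : p.Prime) hp
  refine Equiv.ext fun x => ?_
  have h : ∀ n : ℕ, (((Equiv.addRight b).trans (Equiv.refl _) : Perm (ZMod p)) ^ n) x =
      x + n • b := by
    intro n
    induction n with
    | zero => simp
    | succ n ih =>
      rw [pow_succ', Perm.mul_apply, ih, succ_nsmul]
      simp [add_assoc]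
  rw [h]
  simp

theorem o4_sign_aff {p : ℕ} [Fact p.Prime] (hp : p ≠ 2) (a : (ZMod p)ˣ) (b : ZMod p) :
    Perm.sign (o4_aff a b) = signU p a := by
  unfold o4_aff
  rw [map_mul, o4_sign_addRight hp, one_mul]
  rfl

theorem sign_ext_nrm (p : ℕ) [Fact p.Prime] (hp : p ≠ 2) (m' r : ℕ) (π : Perm (Blk p m'))
    (a : Blk p m' → (ZMod p)ˣ) (b : Blk p m' → ZMod p) :
    Perm.sign (ext (nrm π a b) : Perm (Mdl p m' r)) = Perm.sign π * signU p (∏ i, a i) := by
  rw [sign_ext]
  have h1 : nrm π a b = (Equiv.prodCongrLeft (fun _ : ZMod p => π) : Perm (Blk p m' × ZMod p)) *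
      (Equiv.prodCongrRight (fun i : Blk p m' => o4_aff (a i) (b i)) :
        Perm (Blk p m' × ZMod p)) := by
    refine Equiv.ext ?_
    rintro ⟨i, x⟩
    rw [Perm.mul_apply, nrm_apply, Equiv.prodCongrRight_apply, Equiv.prodCongrLeft_apply,
      o4_aff_apply]
  rw [h1, map_mul, Perm.sign_prodCongrLeft, Perm.sign_prodCongrRight]
  congr 1
  · rw [Finset.prod_const, Finset.card_univ, ZMod.card]
    have hodd : Odd p := (Fact.out : p.Prime).odd_of_ne_two hp
    rcases Int.units_eq_one_or (Perm.sign π) with h | h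
    · rw [h, one_pow]
    · rw [h, Odd.neg_one_pow hodd]
  · rw [map_prod]
    exact Finset.prod_congr rfl (fun i _ => o4_sign_aff hp (a i) (b i))

end Cfsg.Agent.Lib.Helper27.AltFus
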