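import Mathlib
import Cfsg.Agent.Lib.Helper27.AltFus.Defs
import Cfsg.Agent.Lib.helper17.AltFusO0
import Cfsg.Agent.Lib.helper17.AltFusO2
import Cfsg.Agent.Lib.Helper27.AltFus.O4
import Cfsg.Agent.Lib.Helper10.AltFusO5

set_option autoImplicit false

namespace Cfsg.Agent.Lib.Helper27.AltFus

open Equiv
open Cfsg.Agent.Lib.helper17.AltFus (nrm_mul ext_mul mem_B0_iff)
open Cfsg.Agent.Lib.helper17.AltFus (normalizer_B0_form)
open Cfsg.Agent.Lib.Helper27.AltFus (sign_ext_nrm)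
open Cfsg.Agent.Lib.Helper10.AltFus (blk_mem_OpN dg_mem_OpN B0_le_OpN)

/-- the torus element as a `nrm` -/
theorem uu_eq_nrm (p : ℕ) [Fact p.Prime] (m' : ℕ) (l : (ZMod p)ˣ) :
    uu p m' l = nrm (Equiv.Perm.sumCongr (Units.mulLeft l⁻¹) 1)
      (Sum.elim (fun _ => l) (fun _ => 1)) 0 := rfl

theorem prod_uu_units (p : ℕ) [Fact p.Prime] (m' : ℕ) (l : (ZMod p)ˣ) :
    ∏ i : Blk p m', (Sum.elim (fun _ => l) (fun _ => 1) : Blk p m' → (ZMod p)ˣ) i = l := by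
  rw [Fintype.prod_sum_type]
  simp only [Sum.elim_inl, Sum.elim_inr, Finset.prod_const_one, mul_one, Finset.prod_const,
    Finset.card_univ, ZMod.card]
  have hp : 0 < p := (Fact.out : p.Prime).pos
  have h1 : l ^ (p - 1) = 1 := ZMod.units_pow_card_sub_one_eq_one p l
  calc l ^ p = l ^ (p - 1 + 1) := by rw [Nat.sub_add_cancel hp]
    _ = l := by rw [pow_succ, h1, one_mul]

theorem sign_ext_uu (p : ℕ) [Fact p.Prime] (hp : p ≠ 2) (m' r : ℕ) (l : (ZMod p)ˣ) :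
    Perm.sign (ext (uu p m' l) : Perm (Mdl p m' r)) = 1 := by
  rw [uu_eq_nrm, sign_ext_nrm p hp, prod_uu_units, Perm.sign_sumCongr, Perm.sign_one, mul_one]
  have h1 : Perm.sign (Units.mulLeft l⁻¹ : Perm (ZMod p)) = signU p l⁻¹ := rfl
  rw [h1, ← map_mul, inv_mul_cancel, map_one]

/-- splitting off a factor on the right -/
theorem nrm_split {p : ℕ} [Fact p.Prime] {I : Type*} (π πl : Perm I) (a al : I → (ZMod p)ˣ)
    (b : I → ZMod p) :
    nrm π a b = nrm (π * πl⁻¹) (fun i => a (πl⁻¹ i) * (al (πl⁻¹ i))⁻¹) (fun i => b (πl⁻¹ i)) *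
      nrm πl al 0 := by
  rw [nrm_mul]
  congr 1
  · simp
  · funext i
    simp
  · funext i
    simp only [Pi.zero_apply, mul_zero, zero_add, Perm.coe_inv, Equiv.symm_apply_apply]

/-- the three standard factors -/
theorem nrm_factor (p : ℕ) [Fact p.Prime] (m' : ℕ) (π : Perm (Blk p m'))
    (a : Blk p m' → (ZMod p)ˣ) (b : Blk p m' → ZMod p) :
    nrm π a b = nrm 1 1 (fun i => b (π⁻¹ i)) * blk p m' π * dg p m' a := by
  unfold blk dg
  rw [nrm_mul, nrm_mul]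
  congr 1
  · funext i
    simp
  · funext i
    simp

theorem normalizer_gen (p : ℕ) [Fact p.Prime] (hp : p ≠ 2) (m' r : ℕ) (hr : r ≤ 1)
    (g : Perm (Mdl p m' r)) (hgA : g ∈ alternatingGroup (Mdl p m' r))
    (hgN : g ∈ Subgroup.normalizer ((B0 p m' r : Subgroup (Perm (Mdl p m' r))) : Set (Perm (Mdl p m' r)))) :
    g ∈ OpN p (alternatingGroup (Mdl p m' r)) (B0 p m' r) ⊔
      Subgroup.closure (Set.range fun l : (ZMod p)ˣ => (ext (uu p m' l) : Perm (Mdl p m' r))) := by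
  obtain ⟨π, a, b, rfl⟩ := normalizer_B0_form p m' r hr g hgN
  obtain ⟨l, hl⟩ : ∃ l : (ZMod p)ˣ, l = ∏ i, a i := ⟨_, rfl⟩
  obtain ⟨πl, hπl⟩ : ∃ πl : Perm (Blk p m'), πl = Equiv.Perm.sumCongr (Units.mulLeft l⁻¹) 1 :=
    ⟨_, rfl⟩
  obtain ⟨al, hal⟩ : ∃ al : Blk p m' → (ZMod p)ˣ, al = Sum.elim (fun _ => l) (fun _ => 1) :=
    ⟨_, rfl⟩
  have huu : uu p m' l = nrm πl al 0 := by rw [uu_eq_nrm, hπl, hal]
  have h2 := nrm_split π πl a al b
  obtain ⟨π', hπ'⟩ : ∃ π' : Perm (Blk p m'), π' = π * πl⁻¹ := ⟨_, rfl⟩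
  obtain ⟨a', ha'⟩ : ∃ a' : Blk p m' → (ZMod p)ˣ,
      a' = fun i => a (πl⁻¹ i) * (al (πl⁻¹ i))⁻¹ := ⟨_, rfl⟩
  rw [← hπ', ← ha', ← huu] at h2
  have hprod : ∏ i, a' i = 1 := by
    have h1 : ∏ i, a' i = ∏ i, (a i * (al i)⁻¹) := by
      rw [ha']
      exact Equiv.prod_comp (πl⁻¹ : Perm (Blk p m')) (fun i => a i * (al i)⁻¹)
    rw [h1, Finset.prod_mul_distrib, Finset.prod_inv_distrib, hal, prod_uu_units, ← hl,
      mul_inv_cancel]
  have hsign : Perm.sign π' = 1 := by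
    have h1 : Perm.sign (ext (nrm π a b) : Perm (Mdl p m' r)) = 1 :=
      Perm.mem_alternatingGroup.mp hgA
    rw [h2, ext_mul, map_mul, sign_ext_uu p hp, mul_one, sign_ext_nrm p hp, hprod, map_one,
      mul_one] at h1
    exact h1
  rw [h2, nrm_factor p m' π' a', ext_mul, ext_mul, ext_mul]
  apply Subgroup.mul_mem_sup
  · apply Subgroup.mul_mem
    · apply Subgroup.mul_mem
      · exact B0_le_OpN p hp m' r ((mem_B0_iff p m' r _).mpr ⟨_, rfl⟩)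
      · exact blk_mem_OpN p hp m' r π' (Perm.mem_alternatingGroup.mpr hsign)
    · exact dg_mem_OpN p hp m' r a' hprod
  · exact Subgroup.subset_closure ⟨l, rfl⟩

end Cfsg.Agent.Lib.Helper27.AltFus
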