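import Mathlib
import Cfsg.Agent.Lib.Helper27.AltFus.Defs
import Cfsg.Agent.Lib.helper17.AltFusO0
import Cfsg.Agent.Lib.helper17.AltFusO2

set_option autoImplicit false

namespace Cfsg.Agent.Lib.Helper27.AltFus

open Equiv
open Cfsg.Agent.Lib.helper17.AltFus (nrm_mul ext_mul ext_pow ext_one nrm11_mul nrm11_zero nrm_one
  ext_cyc_pow_p ext_cyc_ne_one ext_nrm11_mem nrm_mem_normalizer_B0)

section
variable (p : ℕ) [Fact p.Prime] (m' r : ℕ)

/-- the cyclic shift by `n` of the first `p` blocks -/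
def o8_sh (n : ZMod p) : Perm (Blk p m') := Equiv.Perm.sumCongr (Equiv.addRight n) 1

theorem o8_sh_mul (n n' : ZMod p) : o8_sh p m' n * o8_sh p m' n' = o8_sh p m' (n + n') := by
  refine Equiv.ext ?_
  rintro (j | k)
  · simp [o8_sh, Perm.mul_apply, add_assoc, add_comm n n']
  · simp [o8_sh, Perm.mul_apply]

theorem o8_sh_zero : o8_sh p m' 0 = 1 := by
  refine Equiv.ext ?_
  rintro (j | k) <;> simp [o8_sh]

/-- the general element of `W0` -/
def w0elt (n : ZMod p) (b : Blk p m' → ZMod p) : Perm (Mdl p m' r) :=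
  ext (nrm (o8_sh p m' n) 1 b)

theorem w0elt_mul (n n' : ZMod p) (b b' : Blk p m' → ZMod p) :
    w0elt p m' r n b * w0elt p m' r n' b' =
      w0elt p m' r (n + n') (fun i => b' i + b (o8_sh p m' n' i)) := by
  unfold w0elt
  rw [← ext_mul, nrm_mul, o8_sh_mul]
  congr 2
  · funext i; simp
  · funext i; simp

theorem w0elt_zero_zero : w0elt p m' r 0 0 = 1 := by
  unfold w0elt
  rw [o8_sh_zero, nrm_one, ext_one]

theorem w0elt_pow (n : ZMod p) (b : Blk p m' → ZMod p) (k : ℕ) :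
    ∃ b' : Blk p m' → ZMod p, w0elt p m' r n b ^ k = w0elt p m' r (k • n) b' := by
  induction k with
  | zero => exact ⟨0, by rw [pow_zero, zero_nsmul, w0elt_zero_zero]⟩
  | succ k ih =>
    obtain ⟨b', hb'⟩ := ih
    exact ⟨fun i => b i + b' (o8_sh p m' n i), by rw [pow_succ, hb', w0elt_mul, succ_nsmul]⟩

theorem w0elt_zero_pow (b : Blk p m' → ZMod p) (k : ℕ) :
    w0elt p m' r 0 b ^ k = w0elt p m' r 0 (k • b) := by
  induction k with
  | zero => rw [pow_zero, zero_nsmul, w0elt_zero_zero]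
  | succ k ih =>
    rw [pow_succ, ih, w0elt_mul, succ_nsmul, add_zero]
    congr 1
    funext i
    rw [o8_sh_zero]
    simp [add_comm]

theorem w0elt_pow_sq (n : ZMod p) (b : Blk p m' → ZMod p) : w0elt p m' r n b ^ p ^ 2 = 1 := by
  obtain ⟨b', hb'⟩ := w0elt_pow p m' r n b p
  have hp0 : p • n = 0 := by
    rw [nsmul_eq_mul, ZMod.natCast_self, zero_mul]
  rw [pow_two, pow_mul, hb', hp0, w0elt_zero_pow]
  have : p • b' = 0 := by
    funext i
    rw [Pi.smul_apply, nsmul_eq_mul, ZMod.natCast_self, zero_mul, Pi.zero_apply]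
  rw [this, w0elt_zero_zero]

theorem ext_sig_eq_w0elt : (ext (sig p m') : Perm (Mdl p m' r)) = w0elt p m' r 1 0 := rfl

theorem ext_cyc_eq_w0elt (i : Blk p m') :
    (ext (cyc p m' i) : Perm (Mdl p m' r)) = w0elt p m' r 0 (Pi.single i 1) := by
  unfold w0elt cyc
  rw [o8_sh_zero]

theorem mem_W0_form (g : Perm (Mdl p m' r)) (hg : g ∈ W0 p m' r) :
    ∃ (n : ZMod p) (b : Blk p m' → ZMod p), g = w0elt p m' r n b := by
  unfold W0 at hg
  refine Subgroup.closure_induction (p := fun g _ => ∃ (n : ZMod p) (b : Blk p m' → ZMod p),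
    g = w0elt p m' r n b) ?_ ?_ ?_ ?_ hg
  · rintro x (⟨i, rfl⟩ | hx)
    · exact ⟨0, _, ext_cyc_eq_w0elt p m' r i⟩
    · rw [Set.mem_singleton_iff] at hx
      exact ⟨1, 0, by rw [hx, ext_sig_eq_w0elt]⟩
  · exact ⟨0, 0, (w0elt_zero_zero p m' r).symm⟩
  · rintro x y _ _ ⟨n, b, rfl⟩ ⟨n', b', rfl⟩
    exact ⟨_, _, w0elt_mul p m' r n n' b b'⟩
  · rintro x _ ⟨n, b, rfl⟩
    have h1 := w0elt_pow_sq p m' r n b
    have hp : 0 < p ^ 2 := pow_pos (Fact.out : p.Prime).pos 2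
    have h2 : (w0elt p m' r n b)⁻¹ = w0elt p m' r n b ^ (p ^ 2 - 1) := by
      rw [inv_eq_iff_mul_eq_one, ← pow_succ', Nat.sub_add_cancel hp, h1]
    obtain ⟨b', hb'⟩ := w0elt_pow p m' r n b (p ^ 2 - 1)
    exact ⟨_, b', by rw [h2, hb']⟩

end

theorem W0_pgroup (p : ℕ) [Fact p.Prime] (m' r : ℕ) : IsPGroup p ↥(W0 p m' r) := by
  rintro ⟨g, hg⟩
  obtain ⟨n, b, rfl⟩ := mem_W0_form p m' r g hg
  exact ⟨2, Subtype.ext (w0elt_pow_sq p m' r n b)⟩

theorem B0_le_W0 (p : ℕ) [Fact p.Prime] (m' r : ℕ) : B0 p m' r ≤ W0 p m' r :=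
  Subgroup.closure_mono Set.subset_union_left

theorem R2_le_W0 (p : ℕ) [Fact p.Prime] (m' r : ℕ) : R2 p m' r ≤ W0 p m' r := by
  unfold R2
  rw [Subgroup.closure_le]
  rintro x ((hx | hx) | ⟨k, rfl⟩)
  · rw [hx]
    exact Subgroup.subset_closure (Or.inr rfl)
  · rw [Set.mem_singleton_iff] at hx
    rw [hx]
    exact B0_le_W0 p m' r (ext_nrm11_mem p m' r _)
  · exact Subgroup.subset_closure (Or.inl ⟨_, rfl⟩)

theorem o8_sign_eq_one_of_pow {α : Type*} [Fintype α] [DecidableEq α] {p : ℕ} (hp : p.Prime)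
    (hp2 : p ≠ 2) (g : Perm α) (k : ℕ) (hg : g ^ p ^ k = 1) : Perm.sign g = 1 := by
  have h1 : Perm.sign g ^ p ^ k = 1 := by rw [← map_pow, hg, map_one]
  rcases Int.units_eq_one_or (Perm.sign g) with h | h
  · exact h
  · rw [h] at h1
    have hodd : Odd (p ^ k) := (hp.odd_of_ne_two hp2).pow
    rw [Odd.neg_one_pow hodd] at h1
    exact absurd h1 (by decide)

theorem W0_le_alt (p : ℕ) [Fact p.Prime] (hp : p ≠ 2) (m' r : ℕ) :
    W0 p m' r ≤ alternatingGroup (Mdl p m' r) := by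
  intro g hg
  obtain ⟨n, b, rfl⟩ := mem_W0_form p m' r g hg
  rw [Perm.mem_alternatingGroup]
  exact o8_sign_eq_one_of_pow (Fact.out : p.Prime) hp _ 2 (w0elt_pow_sq p m' r n b)

theorem B0_ne_bot (p : ℕ) [Fact p.Prime] (m' r : ℕ) : B0 p m' r ≠ ⊥ := by
  intro h
  have h1 : (ext (cyc p m' (Sum.inl 0)) : Perm (Mdl p m' r)) ∈ B0 p m' r :=
    Subgroup.subset_closure ⟨_, rfl⟩
  rw [h, Subgroup.mem_bot] at h1
  exact ext_cyc_ne_one p m' r _ h1

theorem w0elt_zero_mem (p : ℕ) [Fact p.Prime] (m' r : ℕ) (n : ZMod p) :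
    w0elt p m' r n 0 ∈ W0 p m' r := by
  have hS : (ext (sig p m') : Perm (Mdl p m' r)) ∈ W0 p m' r :=
    Subgroup.subset_closure (Or.inr rfl)
  have h1 := Subgroup.pow_mem _ hS n.val
  have h2 : ∀ k : ℕ, w0elt p m' r 1 0 ^ k = w0elt p m' r (k • (1 : ZMod p)) 0 := by
    intro k
    induction k with
    | zero => rw [pow_zero, zero_nsmul, w0elt_zero_zero]
    | succ k ih =>
      rw [pow_succ, ih, w0elt_mul, succ_nsmul]
      congr 1
      funext i
      simp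
  rw [ext_sig_eq_w0elt, h2] at h1
  simpa using h1

theorem uu_mem_normalizer_W0 (p : ℕ) [Fact p.Prime] (m' r : ℕ) (l : (ZMod p)ˣ) :
    (ext (uu p m' l) : Perm (Mdl p m' r)) ∈
      Subgroup.normalizer ((W0 p m' r : Subgroup (Perm (Mdl p m' r))) : Set (Perm (Mdl p m' r))) := by
  rw [Subgroup.mem_normalizer_iff_map_conj_eq]
  have hle : (W0 p m' r).map (MulAut.conj (ext (uu p m' l) : Perm (Mdl p m' r))).toMonoidHom ≤
      W0 p m' r := by
    rw [Subgroup.map_le_iff_le_comap]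
    unfold W0
    rw [Subgroup.closure_le]
    rintro x (⟨i, rfl⟩ | hx)
    · show (ext (uu p m' l) : Perm (Mdl p m' r)) * ext (cyc p m' i) * (ext (uu p m' l))⁻¹ ∈
        Subgroup.closure _
      have hN := nrm_mem_normalizer_B0 p m' r
        (Equiv.Perm.sumCongr (Units.mulLeft l⁻¹) 1) (Sum.elim (fun _ => l) (fun _ => 1)) 0
      have hc : (ext (cyc p m' i) : Perm (Mdl p m' r)) ∈ B0 p m' r :=
        Subgroup.subset_closure ⟨i, rfl⟩
      exact B0_le_W0 p m' r ((Subgroup.mem_normalizer_iff.mp hN _).mp hc)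
    · rw [Set.mem_singleton_iff] at hx
      rw [hx]
      show (ext (uu p m' l) : Perm (Mdl p m' r)) * ext (sig p m') * (ext (uu p m' l))⁻¹ ∈
        Subgroup.closure _
      have key : (ext (uu p m' l) : Perm (Mdl p m' r)) * ext (sig p m') =
          w0elt p m' r ((l⁻¹ : (ZMod p)ˣ) : ZMod p) 0 * ext (uu p m' l) := by
        unfold w0elt
        rw [← ext_mul, ← ext_mul]
        congr 1
        refine Equiv.ext ?_
        rintro ⟨j | k, x⟩
        · show nrm _ _ _ (nrm _ _ _ (Sum.inl j, x)) = nrm _ _ _ (nrm _ _ _ (Sum.inl j, x))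
          rw [nrm_apply, nrm_apply, nrm_apply, nrm_apply]
          refine Prod.ext ?_ ?_
          · show (Sum.inl (((l⁻¹ : (ZMod p)ˣ) : ZMod p) * (j + 1)) : Blk p m') =
              Sum.inl (((l⁻¹ : (ZMod p)ˣ) : ZMod p) * j + ((l⁻¹ : (ZMod p)ˣ) : ZMod p))
            rw [mul_add, mul_one]
          · show ((l : (ZMod p)ˣ) : ZMod p) * (((1 : (ZMod p)ˣ) : ZMod p) * x + 0) + 0 =
              ((1 : (ZMod p)ˣ) : ZMod p) * (((l : (ZMod p)ˣ) : ZMod p) * x + 0) + 0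
            simp
        · show nrm _ _ _ (nrm _ _ _ (Sum.inr k, x)) = nrm _ _ _ (nrm _ _ _ (Sum.inr k, x))
          rw [nrm_apply, nrm_apply, nrm_apply, nrm_apply]
          refine Prod.ext ?_ ?_
          · rfl
          · show ((1 : (ZMod p)ˣ) : ZMod p) * (((1 : (ZMod p)ˣ) : ZMod p) * x + 0) + 0 =
              ((1 : (ZMod p)ˣ) : ZMod p) * (((1 : (ZMod p)ˣ) : ZMod p) * x + 0) + 0
            rfl
      rw [key, mul_inv_cancel_right]
      exact w0elt_zero_mem p m' r _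
  refine Subgroup.eq_of_le_of_card_ge hle ?_
  rw [Subgroup.card_map_of_injective (MulAut.conj _).injective]

end Cfsg.Agent.Lib.Helper27.AltFus
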