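import Mathlib
import Cfsg.Agent.Lib.Helper27.AltFus.Defs
import Cfsg.Agent.Lib.helper17.AltFusO0

set_option autoImplicit false

namespace Cfsg.Agent.Lib.Helper27.AltFus

open Equiv
open Cfsg.Agent.Lib.helper17.AltFus (nrm_mul ext_mul ext_pow nrm11_mul nrm11_zero cyc_pow ext_one)

section
variable (p : ℕ) [Fact p.Prime] (m' r : ℕ)

/-- the general element of `R2` -/
def r2elt (j₀ x₀ : ZMod p) (y : Fin m' → ZMod p) : Perm (Mdl p m' r) :=
  ext (nrm (Equiv.Perm.sumCongr (Equiv.addRight j₀) 1) 1 (Sum.elim (fun _ => x₀) y))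

theorem r2elt_inl_inl (j₀ x₀ : ZMod p) (y : Fin m' → ZMod p) (j x : ZMod p) :
    r2elt p m' r j₀ x₀ y (Sum.inl (Sum.inl j, x)) = Sum.inl (Sum.inl (j + j₀), x + x₀) := by
  simp [r2elt]

theorem r2elt_inl_inr (j₀ x₀ : ZMod p) (y : Fin m' → ZMod p) (k : Fin m') (x : ZMod p) :
    r2elt p m' r j₀ x₀ y (Sum.inl (Sum.inr k, x)) = Sum.inl (Sum.inr k, x + y k) := by
  simp [r2elt]

theorem r2elt_inr (j₀ x₀ : ZMod p) (y : Fin m' → ZMod p) (t : Fin r) :
    r2elt p m' r j₀ x₀ y (Sum.inr t) = Sum.inr t := by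
  simp [r2elt]

theorem r2elt_mul (j₀ x₀ : ZMod p) (y : Fin m' → ZMod p) (j₁ x₁ : ZMod p)
    (y' : Fin m' → ZMod p) :
    r2elt p m' r j₀ x₀ y * r2elt p m' r j₁ x₁ y' = r2elt p m' r (j₀ + j₁) (x₀ + x₁) (y + y') := by
  refine Equiv.ext ?_
  rintro (⟨j | k, x⟩ | t)
  · rw [Perm.mul_apply, r2elt_inl_inl, r2elt_inl_inl, r2elt_inl_inl]
    have e1 : j + j₁ + j₀ = j + (j₀ + j₁) := by ring
    have e2 : x + x₁ + x₀ = x + (x₀ + x₁) := by ring
    rw [e1, e2]
  · rw [Perm.mul_apply, r2elt_inl_inr, r2elt_inl_inr, r2elt_inl_inr]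
    have e1 : x + y' k + y k = x + (y + y') k := by
      rw [Pi.add_apply]; ring
    rw [e1]
  · rw [Perm.mul_apply, r2elt_inr, r2elt_inr, r2elt_inr]

theorem r2elt_zero : r2elt p m' r 0 0 0 = 1 := by
  refine Equiv.ext ?_
  rintro (⟨j | k, x⟩ | t)
  · rw [r2elt_inl_inl]; simp
  · rw [r2elt_inl_inr]; simp
  · rw [r2elt_inr]; simp

theorem ext_sig_eq : (ext (sig p m') : Perm (Mdl p m' r)) = r2elt p m' r 1 0 0 := by
  refine Equiv.ext ?_
  rintro (⟨j | k, x⟩ | t)
  · rw [r2elt_inl_inl]; simp [sig, blk]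
  · rw [r2elt_inl_inr]; simp [sig, blk]
  · rw [r2elt_inr]; simp

theorem ext_zz_eq : (ext (zz p m') : Perm (Mdl p m' r)) = r2elt p m' r 0 1 0 := by
  refine Equiv.ext ?_
  rintro (⟨j | k, x⟩ | t)
  · rw [r2elt_inl_inl]; simp [zz]
  · rw [r2elt_inl_inr]; simp [zz]
  · rw [r2elt_inr]; simp

theorem ext_cyc_inr_eq (k : Fin m') :
    (ext (cyc p m' (Sum.inr k)) : Perm (Mdl p m' r)) = r2elt p m' r 0 0 (Pi.single k 1) := by
  refine Equiv.ext ?_
  rintro (⟨j | k', x⟩ | t)
  · rw [r2elt_inl_inl]; simp [cyc]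
  · rw [r2elt_inl_inr]
    by_cases h : k' = k
    · subst h; simp [cyc]
    · have h' : (Sum.inr k' : Blk p m') ≠ Sum.inr k := fun e => h (Sum.inr.inj e)
      simp [cyc, Pi.single_eq_of_ne h, Pi.single_eq_of_ne h']
  · rw [r2elt_inr]; simp

theorem r2elt_pow (j₀ x₀ : ZMod p) (y : Fin m' → ZMod p) (n : ℕ) :
    r2elt p m' r j₀ x₀ y ^ n = r2elt p m' r (n • j₀) (n • x₀) (n • y) := by
  induction n with
  | zero => simp [r2elt_zero]
  | succ n ih => rw [pow_succ, ih, r2elt_mul, succ_nsmul, succ_nsmul, succ_nsmul]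

theorem r2elt_mem (j₀ x₀ : ZMod p) (y : Fin m' → ZMod p) : r2elt p m' r j₀ x₀ y ∈ R2 p m' r := by
  have hS : (ext (sig p m') : Perm (Mdl p m' r)) ∈ R2 p m' r :=
    Subgroup.subset_closure (Or.inl (Set.mem_insert _ _))
  have hZ : (ext (zz p m') : Perm (Mdl p m' r)) ∈ R2 p m' r :=
    Subgroup.subset_closure (Or.inl (Set.mem_insert_of_mem _ rfl))
  have hC : ∀ k : Fin m', (ext (cyc p m' (Sum.inr k)) : Perm (Mdl p m' r)) ∈ R2 p m' r :=
    fun k => Subgroup.subset_closure (Or.inr ⟨k, rfl⟩)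
  have h1 : r2elt p m' r j₀ 0 0 ∈ R2 p m' r := by
    have := Subgroup.pow_mem _ hS j₀.val
    rw [ext_sig_eq, r2elt_pow] at this
    simpa using this
  have h2 : r2elt p m' r 0 x₀ 0 ∈ R2 p m' r := by
    have := Subgroup.pow_mem _ hZ x₀.val
    rw [ext_zz_eq, r2elt_pow] at this
    simpa using this
  have h3 : ∀ s : Finset (Fin m'),
      r2elt p m' r 0 0 (fun k => if k ∈ s then y k else 0) ∈ R2 p m' r := by
    intro s
    induction s using Finset.induction_on with
    | empty =>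
      have : (fun k : Fin m' => if k ∈ (∅ : Finset (Fin m')) then y k else 0) = 0 := by
        funext k; simp
      rw [this, r2elt_zero]
      exact Subgroup.one_mem _
    | insert k s hk ih =>
      have h4 : r2elt p m' r 0 0 (Pi.single k (y k)) ∈ R2 p m' r := by
        have := Subgroup.pow_mem _ (hC k) (y k).val
        rw [ext_cyc_inr_eq, r2elt_pow] at this
        have e : (y k).val • (Pi.single k 1 : Fin m' → ZMod p) = Pi.single k (y k) := by
          funext k'
          by_cases h : k' = k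
          · subst h; simp
          · simp [Pi.single_eq_of_ne h]
        rw [e] at this
        simpa using this
      have h5 := Subgroup.mul_mem _ h4 ih
      rw [r2elt_mul] at h5
      have e : (Pi.single k (y k) + fun k' => if k' ∈ s then y k' else 0) =
          fun k' => if k' ∈ insert k s then y k' else 0 := by
        funext k'
        by_cases h : k' = k
        · subst h; simp [hk]
        · simp [Pi.single_eq_of_ne h, h]
      rw [e] at h5
      simpa using h5
  have h6 := h3 Finset.univ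
  have e : (fun k : Fin m' => if k ∈ (Finset.univ : Finset (Fin m')) then y k else 0) = y := by
    funext k; simp
  rw [e] at h6
  have := Subgroup.mul_mem _ (Subgroup.mul_mem _ h1 h2) h6
  rw [r2elt_mul, r2elt_mul] at this
  simpa using this

end

theorem centralizer_R2 (p : ℕ) [Fact p.Prime] (m' r : ℕ) (hr : r ≤ 1) (g : Perm (Mdl p m' r))
    (hg : ∀ b ∈ R2 p m' r, g * b = b * g) : g ∈ R2 p m' r := by
  have hgr : ∀ (j₀ x₀ : ZMod p) (y : Fin m' → ZMod p) (q : Mdl p m' r),
      g (r2elt p m' r j₀ x₀ y q) = r2elt p m' r j₀ x₀ y (g q) := by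
    intro j₀ x₀ y q
    have := hg _ (r2elt_mem p m' r j₀ x₀ y)
    exact congrArg (fun f : Perm (Mdl p m' r) => f q) this
  have h10 : (1 : ZMod p) ≠ 0 := one_ne_zero
  -- the base point of the big block
  have hA : ∃ j₀ x₀ : ZMod p, g (Sum.inl (Sum.inl 0, 0)) = Sum.inl (Sum.inl j₀, x₀) := by
    have h1 := hgr 1 0 0 (Sum.inl (Sum.inl 0, 0))
    rw [r2elt_inl_inl] at h1
    rcases hq : g (Sum.inl (Sum.inl 0, 0)) with (⟨j | k, x⟩ | t)
    · exact ⟨j, x, rfl⟩
    · exfalso
      rw [hq, r2elt_inl_inr] at h1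
      have h2 : g (Sum.inl (Sum.inl (0 + 1), 0 + 0)) = g (Sum.inl (Sum.inl 0, 0)) := by
        rw [h1, hq]; simp
      have h3 := g.injective h2
      simp at h3
    · exfalso
      rw [hq, r2elt_inr] at h1
      have h2 : g (Sum.inl (Sum.inl (0 + 1), 0 + 0)) = g (Sum.inl (Sum.inl 0, 0)) := by
        rw [h1, hq]
      have h3 := g.injective h2
      simp at h3
  obtain ⟨j₀, x₀, hq₀⟩ := hA
  -- the base points of the small blocks
  have hB : ∀ k : Fin m', ∃ yk : ZMod p, g (Sum.inl (Sum.inr k, 0)) = Sum.inl (Sum.inr k, yk) := by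
    intro k
    have h1 := hgr 0 0 (Pi.single k 1) (Sum.inl (Sum.inr k, 0))
    rw [r2elt_inl_inr] at h1
    simp only [Pi.single_eq_same, zero_add] at h1
    rcases hq : g (Sum.inl (Sum.inr k, 0)) with (⟨j | k', x⟩ | t)
    · exfalso
      rw [hq, r2elt_inl_inl] at h1
      have h2 : g (Sum.inl (Sum.inr k, 1)) = g (Sum.inl (Sum.inr k, 0)) := by
        rw [h1, hq]; simp
      have h3 := g.injective h2
      simp at h3
    · by_cases hk : k' = k
      · subst hk
        exact ⟨x, rfl⟩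
      · exfalso
        rw [hq, r2elt_inl_inr, Pi.single_eq_of_ne hk] at h1
        have h2 : g (Sum.inl (Sum.inr k, 1)) = g (Sum.inl (Sum.inr k, 0)) := by
          rw [h1, hq]; simp
        have h3 := g.injective h2
        simp at h3
    · exfalso
      rw [hq, r2elt_inr] at h1
      have h2 : g (Sum.inl (Sum.inr k, 1)) = g (Sum.inl (Sum.inr k, 0)) := by
        rw [h1, hq]
      have h3 := g.injective h2
      simp at h3
  choose y hy using hB
  -- the remaining points
  have hC : ∀ t : Fin r, g (Sum.inr t) = Sum.inr t := by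
    intro t
    rcases hq : g (Sum.inr t) with (⟨j | k, x⟩ | t')
    · exfalso
      have h1 := hgr 1 0 0 (Sum.inr t)
      rw [r2elt_inr, hq, r2elt_inl_inl] at h1
      simp at h1
    · exfalso
      have h1 := hgr 0 0 (Pi.single k 1) (Sum.inr t)
      rw [r2elt_inr, hq, r2elt_inl_inr] at h1
      simp at h1
    · have : Subsingleton (Fin r) := by
        interval_cases r
        · infer_instance
        · infer_instance
      rw [Subsingleton.elim t' t]
  have hfin : g = r2elt p m' r j₀ x₀ y := by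
    refine Equiv.ext ?_
    rintro (⟨j | k, x⟩ | t)
    · have h1 := hgr j x 0 (Sum.inl (Sum.inl 0, 0))
      rw [r2elt_inl_inl, hq₀, r2elt_inl_inl] at h1
      rw [r2elt_inl_inl]
      simp only [zero_add] at h1
      rw [h1]
      have e1 : j₀ + j = j + j₀ := by ring
      have e2 : x₀ + x = x + x₀ := by ring
      rw [e1, e2]
    · have h1 := hgr 0 0 (Pi.single k x) (Sum.inl (Sum.inr k, 0))
      rw [r2elt_inl_inr, hy, r2elt_inl_inr] at h1
      simp only [Pi.single_eq_same, zero_add] at h1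
      rw [r2elt_inl_inr, h1]
      have e1 : y k + x = x + y k := by ring
      rw [e1]
    · rw [hC, r2elt_inr]
  rw [hfin]
  exact r2elt_mem p m' r j₀ x₀ y

end Cfsg.Agent.Lib.Helper27.AltFus
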