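import Mathlib
import Cfsg.Agent.Lib.Helper27.AltFus.SX
import Cfsg.Agent.Lib.Helper10.AltFusS2
import Cfsg.Agent.Lib.Helper13.AltFusS3
import Cfsg.Agent.Lib.Helper13.AltFusS4

set_option autoImplicit false

namespace Cfsg.Agent.Lib.Helper27.AltFus

open Equiv
open Cfsg.Agent.Lib.Helper10.AltFus (pelt_split)
open Cfsg.Agent.Lib.Helper13.AltFus (order_p_mem_odd)
open Cfsg.Agent.Lib.Helper13.AltFus (order_p_mem_two)

/-- every `p`-element of the alternating group is conjugate into `T` -/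
theorem pelt_mem_conjSet {α : Type*} [Fintype α] [DecidableEq α] (p : ℕ) [Fact p.Prime]
    (hn : p ^ 2 ≤ Fintype.card α) (hn6 : 6 ≤ Fintype.card α)
    (P T : Subgroup (Perm α)) (hP : IsSylIn p (alternatingGroup α) P) (hTP : T ≤ P) (hT : T ≠ ⊥)
    (hcl : ∀ x ∈ T, ∀ g ∈ alternatingGroup α, g * x * g⁻¹ ∈ P → g * x * g⁻¹ ∈ T) (k : ℕ) :
    ∀ y : Perm α, y ∈ alternatingGroup α → y ^ p ^ k = 1 → y ∈ conjSet (alternatingGroup α) T := by
  induction k with
  | zero =>
    intro y _ hy
    rw [pow_zero, pow_one] at hy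
    rw [hy]
    exact mem_conjSet_of_mem _ _ T.one_mem
  | succ k ih =>
    intro y hyA hy
    obtain ⟨b, c, hbc, hb, hc, hsign, hQ⟩ := pelt_split p k y hy
    have hcA : c ∈ alternatingGroup α := by
      rw [Perm.mem_alternatingGroup, hsign]
      exact Perm.mem_alternatingGroup.mp hyA
    have hbA : b ∈ alternatingGroup α := by
      have : b = y * c⁻¹ := by rw [hbc]; group
      rw [this]
      exact Subgroup.mul_mem _ hyA (Subgroup.inv_mem _ hcA)
    have hcX : c ∈ conjSet (alternatingGroup α) T := by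
      by_cases hp : p = 2
      · subst hp
        exact order_p_mem_two hn6 P T hP hTP hT hcl c hcA hc
      · exact order_p_mem_odd p hp hn P T hP hTP hT hcl c hc
    have hbX : b ∈ conjSet (alternatingGroup α) T := ih b hbA hb
    have hQA : Subgroup.closure ({b, c} : Set (Perm α)) ≤ alternatingGroup α := by
      rw [Subgroup.closure_le]
      rintro x (rfl | rfl)
      · exact hbA
      · exact hcA
    rw [hbc]
    exact conjSet_mul hP hcl _ hQA hQ hbX hcX
      (Subgroup.subset_closure (Set.mem_insert _ _))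
      (Subgroup.subset_closure (Set.mem_insert_of_mem _ rfl))

/-- no proper nontrivial strongly closed subgroup -/
theorem stronglyClosed_eq {α : Type*} [Fintype α] [DecidableEq α] (p : ℕ) [Fact p.Prime]
    (hn : p ^ 2 ≤ Fintype.card α) (hn6 : 6 ≤ Fintype.card α)
    (P T : Subgroup (Perm α)) (hP : IsSylIn p (alternatingGroup α) P) (hTP : T ≤ P) (hT : T ≠ ⊥)
    (hcl : ∀ x ∈ T, ∀ g ∈ alternatingGroup α, g * x * g⁻¹ ∈ P → g * x * g⁻¹ ∈ T) : P ≤ T := by
  intro y hy
  obtain ⟨k, hk⟩ := hP.pgroup ⟨y, hy⟩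
  have hk' : y ^ p ^ k = 1 := congrArg Subtype.val hk
  exact conjSet_inter hcl (pelt_mem_conjSet p hn hn6 P T hP hTP hT hcl k y (hP.le hy) hk') hy

end Cfsg.Agent.Lib.Helper27.AltFus
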