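import Mathlib
import Cfsg.Agent.Lib.Helper27.AltFus.CritEmb
import Cfsg.Agent.Lib.Helper27.AltFus.SX2
import Cfsg.Agent.Lib.Helper27.AltFus.O6
import Cfsg.Agent.Lib.Helper24.AltFusO1
import Cfsg.Agent.Lib.helper17.AltFusO2
import Cfsg.Agent.Lib.helper3.AltFusO7
import Cfsg.Agent.Lib.Helper27.AltFus.O8
import Cfsg.Agent.Lib.Helper27.AltFus.O9
import Cfsg.Agent.Lib.helper3.AltFusE0
import Cfsg.Agent.Lib.Helper24.AltFusE1
import Cfsg.Agent.Lib.Helper25.AltFusE2
import Cfsg.Agent.Lib.Helper25.AltFusE3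
import Cfsg.Agent.Lib.Helper10.AltFusE4

set_option autoImplicit false

namespace Cfsg.Agent.Lib.Helper27.AltFus

open Equiv Cfsg
open Cfsg.Agent.Lib.Helper24.AltFus (B0_weaklyClosed)
open Cfsg.Agent.Lib.helper17.AltFus (centralizer_B0 nrm_mem_normalizer_B0)
open Cfsg.Agent.Lib.helper3.AltFus (uu_mem_OpN)
open Cfsg.Agent.Lib.Helper27.AltFus (W0_pgroup B0_le_W0 R2_le_W0 W0_le_alt B0_ne_bot uu_mem_normalizer_W0)
open Cfsg.Agent.Lib.Helper27.AltFus (centralizer_R2)
open Cfsg.Agent.Lib.helper3.AltFus (DD_pgroup)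
open Cfsg.Agent.Lib.Helper24.AltFus (dtrans_mem_W2)
open Cfsg.Agent.Lib.Helper25.AltFus (W2_le_closure_dtrans)
open Cfsg.Agent.Lib.Helper25.AltFus (centralizer_W2)
open Cfsg.Agent.Lib.Helper10.AltFus (normalizer_W2_gen W2_ne_bot)

/-- an embedding of `A_n` onto the alternating group of a model set with `n` points, carrying a
given Sylow subgroup onto one which contains a given `p`-subgroup -/
theorem exists_emb {n : ℕ} {X : Type} [Fintype X] [DecidableEq X] (hX : Fintype.card X = n)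
    (p : ℕ) [Fact p.Prime] (S : Sylow p (alternatingGroup (Fin n))) (W : Subgroup (Perm X))
    (hWA : W ≤ alternatingGroup X) (hWp : IsPGroup p W) :
    ∃ f : alternatingGroup (Fin n) →* Perm X, Function.Injective f ∧
      f.range = alternatingGroup X ∧
      W ≤ (S : Subgroup (alternatingGroup (Fin n))).map f := by
  classical
  have hc : Fintype.card (Fin n) = Fintype.card X := by rw [Fintype.card_fin, hX]
  let ε₀ : Fin n ≃ X := Fintype.equivOfCardEq hc
  let f₀ : alternatingGroup (Fin n) →* Perm X :=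
    (ε₀.permCongrHom.toMonoidHom).comp (alternatingGroup (Fin n)).subtype
  have hf₀ : Function.Injective f₀ := by
    intro a b hab
    apply Subtype.ext
    exact ε₀.permCongrHom.injective hab
  have hr₀ : f₀.range = alternatingGroup X := by
    ext y
    constructor
    · rintro ⟨x, rfl⟩
      rw [Perm.mem_alternatingGroup]
      show Perm.sign (ε₀.permCongr (x : Perm (Fin n))) = 1
      rw [Perm.sign_permCongr]
      exact Perm.mem_alternatingGroup.mp x.2
    · intro hy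
      have h1 : Perm.sign (ε₀.symm.permCongr y) = 1 := by
        rw [Perm.sign_permCongr]
        exact Perm.mem_alternatingGroup.mp hy
      refine ⟨⟨ε₀.symm.permCongr y, Perm.mem_alternatingGroup.mpr h1⟩, ?_⟩
      show ε₀.permCongr (ε₀.symm.permCongr y) = y
      ext x
      simp [Equiv.permCongr_apply]
  have hS₀ := isSylIn_map p S f₀ hf₀
  obtain ⟨g, hg, hgW⟩ := hS₀.conj W (by rw [hr₀]; exact hWA) hWp
  rw [hr₀] at hg
  refine ⟨(MulAut.conj g⁻¹).toMonoidHom.comp f₀, ?_, ?_, ?_⟩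
  · exact (MulAut.conj g⁻¹).injective.comp hf₀
  · ext y
    constructor
    · rintro ⟨x, rfl⟩
      show g⁻¹ * f₀ x * g⁻¹⁻¹ ∈ alternatingGroup X
      have hx : f₀ x ∈ alternatingGroup X := by rw [← hr₀]; exact ⟨x, rfl⟩
      exact Subgroup.mul_mem _ (Subgroup.mul_mem _ (Subgroup.inv_mem _ hg) hx)
        (Subgroup.inv_mem _ (Subgroup.inv_mem _ hg))
    · intro hy
      have h1 : g * y * g⁻¹ ∈ f₀.range := by
        rw [hr₀]
        exact Subgroup.mul_mem _ (Subgroup.mul_mem _ hg hy) (Subgroup.inv_mem _ hg)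
      obtain ⟨x, hx⟩ := h1
      refine ⟨x, ?_⟩
      show g⁻¹ * f₀ x * g⁻¹⁻¹ = y
      rw [hx]
      group
  · intro x hx
    obtain ⟨s, hs, hsx⟩ := hgW x hx
    refine ⟨s, hs, ?_⟩
    show g⁻¹ * f₀ s * g⁻¹⁻¹ = x
    rw [hsx]
    group

theorem card_mdl (p : ℕ) [Fact p.Prime] (n : ℕ) (hnp : p ^ 2 ≤ n) :
    Fintype.card (Mdl p (n / p - p) (n % p)) = n := by
  have hp : 0 < p := (Fact.out : p.Prime).pos
  have h1 : p ≤ n / p := by
    rw [Nat.le_div_iff_mul_le hp, ← sq]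
    exact hnp
  simp only [Fintype.card_sum, Fintype.card_prod, ZMod.card, Fintype.card_fin]
  rw [Nat.add_sub_cancel' h1]
  exact Nat.div_add_mod' n p

theorem simple_odd (n p : ℕ) [Fact p.Prime] (hp : p ≠ 2) (hn : 6 ≤ n) (hnp : p ^ 2 ≤ n)
    (hb : n % p ≤ 1) (S : Sylow p (alternatingGroup (Fin n))) :
    (groupFusionSystem (S : Subgroup (alternatingGroup (Fin n)))).IsSimple p := by
  have hX := card_mdl p n hnp
  obtain ⟨f, hf, hfr, hW⟩ := exists_emb hX p S (W0 p (n / p - p) (n % p))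
    (W0_le_alt p hp _ _) (W0_pgroup p _ _)
  have hSyl : IsSylIn p (alternatingGroup (Mdl p (n / p - p) (n % p)))
      ((S : Subgroup (alternatingGroup (Fin n))).map f) := by
    rw [← hfr]
    exact isSylIn_map p S f hf
  have hBP : B0 p (n / p - p) (n % p) ≤ (S : Subgroup (alternatingGroup (Fin n))).map f :=
    (B0_le_W0 p _ _).trans hW
  have hBc : ∀ c ∈ alternatingGroup (Mdl p (n / p - p) (n % p)),
      (∀ b ∈ B0 p (n / p - p) (n % p), c * b = b * c) → c ∈ B0 p (n / p - p) (n % p) := by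
    intro c _ hc
    apply centralizer_B0 p _ _ hb c
    intro i
    exact hc _ (Subgroup.subset_closure ⟨i, rfl⟩)
  refine isSimple_of_base_emb p S f hf _ _ hfr rfl ?_ ?_ (B0 p (n / p - p) (n % p)) hBP hBc ?_ ?_
  · intro h
    apply B0_ne_bot p (n / p - p) (n % p)
    rw [eq_bot_iff, ← h]
    exact hBP
  · intro T hTP hT hcl
    exact stronglyClosed_eq p (by rw [hX]; exact hnp) (by rw [hX]; exact hn) _ T hSyl hTP hT hcl
  · intro g _ hg
    exact B0_weaklyClosed p _ _ hb _ hSyl.pgroup hBP g hg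
  · intro g hgA hgN
    have h1 := normalizer_gen p hp _ _ hb g hgA hgN
    refine (sup_le ?_ ?_ : _ ≤ Subgroup.closure _) h1
    · unfold OpN
      apply Subgroup.closure_mono
      rintro x ⟨hxA, hxN, k, hk⟩
      exact ⟨hxA, hxN, B0 p (n / p - p) (n % p), B0 p (n / p - p) (n % p), le_rfl, le_rfl, hBP,
        hxN, hBc, Subgroup.subset_closure ⟨hxA, hxN, k, hk⟩⟩
    · rw [Subgroup.closure_le]
      rintro _ ⟨l, rfl⟩
      apply Subgroup.subset_closure
      have hOp := uu_mem_OpN p hp (n / p - p) (n % p) l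
      have hOpA : OpN p (alternatingGroup (Mdl p (n / p - p) (n % p))) (R2 p (n / p - p) (n % p)) ≤
          alternatingGroup (Mdl p (n / p - p) (n % p)) := by
        unfold OpN
        rw [Subgroup.closure_le]
        rintro x ⟨hxA, -⟩
        exact hxA
      refine ⟨hOpA hOp, nrm_mem_normalizer_B0 p _ _ _ _ _, R2 p (n / p - p) (n % p),
        W0 p (n / p - p) (n % p), R2_le_W0 p _ _, B0_le_W0 p _ _, hW,
        uu_mem_normalizer_W0 p _ _ l, ?_, hOp⟩
      intro c _ hc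
      exact centralizer_R2 p _ _ hb c hc

theorem card_mdl2 (n : ℕ) : Fintype.card (Mdl2 (n / 4) (n % 4 / 2) (n % 2)) = n := by
  simp only [Fintype.card_sum, Fintype.card_prod, ZMod.card, Fintype.card_fin]
  omega

theorem simple_two (n : ℕ) (hn : 6 ≤ n) (S : Sylow 2 (alternatingGroup (Fin n))) :
    (groupFusionSystem (S : Subgroup (alternatingGroup (Fin n)))).IsSimple 2 := by
  have hX := card_mdl2 n
  have hk : 1 ≤ n / 4 := by omega
  have h6 : 2 ≤ n / 4 ∨ n % 4 / 2 = 1 := by omega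
  have hs1 : n % 4 / 2 ≤ 1 := by omega
  have hr : n % 2 ≤ 1 := by omega
  have hW2p : IsPGroup 2 ↥(W2 (n / 4) (n % 4 / 2) (n % 2)) :=
    (DD_pgroup _ _ _).to_le inf_le_left
  obtain ⟨f, hf, hfr, hW⟩ := exists_emb hX 2 S (W2 (n / 4) (n % 4 / 2) (n % 2))
    inf_le_right hW2p
  have hSyl : IsSylIn 2 (alternatingGroup (Mdl2 (n / 4) (n % 4 / 2) (n % 2)))
      ((S : Subgroup (alternatingGroup (Fin n))).map f) := by
    rw [← hfr]
    exact isSylIn_map 2 S f hf
  have hBc : ∀ c ∈ alternatingGroup (Mdl2 (n / 4) (n % 4 / 2) (n % 2)),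
      (∀ b ∈ W2 (n / 4) (n % 4 / 2) (n % 2), c * b = b * c) →
      c ∈ W2 (n / 4) (n % 4 / 2) (n % 2) :=
    fun c hcA hc => centralizer_W2 _ _ _ hk h6 hs1 hr c hcA hc
  refine isSimple_of_base_emb 2 S f hf _ _ hfr rfl ?_ ?_ (W2 (n / 4) (n % 4 / 2) (n % 2)) hW
    hBc ?_ ?_
  · intro h
    apply W2_ne_bot (n / 4) (n % 4 / 2) (n % 2) hk
    rw [eq_bot_iff, ← h]
    exact hW
  · intro T hTP hT hcl
    exact stronglyClosed_eq 2 (by rw [hX]; omega) (by rw [hX]; exact hn) _ T hSyl hTP hT hcl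
  · intro g _ hg
    have hle : W2 (n / 4) (n % 4 / 2) (n % 2) ≤
        (W2 (n / 4) (n % 4 / 2) (n % 2)).comap (MulAut.conj g).toMonoidHom := by
      refine (W2_le_closure_dtrans _ _ _ hk).trans ?_
      rw [Subgroup.closure_le]
      rintro x ⟨hxW, hxc⟩
      show g * x * g⁻¹ ∈ W2 (n / 4) (n % 4 / 2) (n % 2)
      apply dtrans_mem_W2 _ _ _ hk h6 hs1 hr _ hSyl.pgroup hSyl.le hW _ (hg x hxW)
      rw [Perm.cycleType_conj]
      exact hxc
    exact fun b hb => hle hb
  · intro g hgA hgN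
    have h1 := normalizer_W2_gen _ _ _ hk h6 hs1 hr g hgA hgN
    revert h1
    unfold OpN
    apply Subgroup.closure_mono
    rintro x ⟨hxA, hxN, k, hk'⟩
    exact ⟨hxA, hxN, W2 (n / 4) (n % 4 / 2) (n % 2), W2 (n / 4) (n % 4 / 2) (n % 2), le_rfl,
      le_rfl, hW, hxN, hBc, Subgroup.subset_closure ⟨hxA, hxN, k, hk'⟩⟩

theorem simple_alt (n p : ℕ) (hn : 6 ≤ n) [Fact p.Prime] (hnp : p ^ 2 ≤ n) (hb : n % p ≤ 1)
    (S : Sylow p (alternatingGroup (Fin n))) :
    (groupFusionSystem (S : Subgroup (alternatingGroup (Fin n)))).IsSimple p := by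
  by_cases hp : p = 2
  · subst hp
    exact simple_two n hn S
  · exact simple_odd n p hp hn hnp hb S

end Cfsg.Agent.Lib.Helper27.AltFus
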